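import Cfsg.Agent.Lib.SpecSp4.Twisted
import Cfsg.Agent.Lib.PrimeGraphModule

/-!
A group with a large abelian normal subgroup whose element orders are the divisors of `6, 9, q - 1, (q + 1) / 2`
for `q` an odd power of three, and the isospectrality criterion for cubes.
-/

set_option autoImplicit false

namespace CfsgLib.SpecRee

open Matrix CfsgLib.SpecSp4

/-- If a factor `M` realises all types but two, `M × R × R` has the element orders of `R × R × R`. -/
theorem range_cube {M R S : Type*} [Group M] [Group R] [Group S] (E : List ℕ) (c d : ℕ)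
    (hR : ∀ n : ℕ, (∃ g : R, orderOf g = n) ↔ ((∃ e ∈ E, n ∣ e) ∨ n ∣ c ∨ n ∣ d))
    (hM : ∀ n : ℕ, (∃ g : M, orderOf g = n) ↔ ∃ e ∈ E, n ∣ e)
    (hS : ∀ n : ℕ, (∃ g : S, orderOf g = n) ↔ ∃ g : R, orderOf g = n) :
    Set.range (orderOf : M × S × S → ℕ) = Set.range (orderOf : R × R × R → ℕ) := by
  ext n
  constructor
  · rintro ⟨⟨x, y, z⟩, rfl⟩
    obtain ⟨x', hx⟩ := (hR _).mpr (Or.inl ((hM _).mp ⟨x, rfl⟩))
    obtain ⟨y', hy⟩ := (hS _).mp ⟨y, rfl⟩
    obtain ⟨z', hz⟩ := (hS _).mp ⟨z, rfl⟩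
    exact ⟨(x', y', z'), by simp only [Prod.orderOf, hx, hy, hz]⟩
  · rintro ⟨⟨x, y, z⟩, rfl⟩
    have mk : ∀ a b e : ℕ, (∃ g : M, orderOf g = a) → (∃ g : R, orderOf g = b) → (∃ g : R, orderOf g = e) →
        Nat.lcm a (Nat.lcm b e) ∈ Set.range (orderOf : M × S × S → ℕ) := by
      intro a b e ⟨g, hg⟩ hb he
      obtain ⟨g', hg'⟩ := (hS b).mpr hb
      obtain ⟨g'', hg''⟩ := (hS e).mpr he
      exact ⟨(g, g', g''), by simp only [Prod.orderOf, hg, hg', hg'']⟩
    simp only [Prod.orderOf]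
    set ox := orderOf x
    set oy := orderOf y
    set oz := orderOf z
    have hx : ∃ g : R, orderOf g = ox := ⟨x, rfl⟩
    have hy : ∃ g : R, orderOf g = oy := ⟨y, rfl⟩
    have hz : ∃ g : R, orderOf g = oz := ⟨z, rfl⟩
    rcases (hR ox).mp hx with h | h
    · exact mk _ _ _ ((hM ox).mpr h) hy hz
    rcases (hR oy).mp hy with h' | h'
    · rw [← Nat.lcm_assoc, Nat.lcm_comm ox, Nat.lcm_assoc]
      exact mk _ _ _ ((hM oy).mpr h') hx hz
    rcases (hR oz).mp hz with h'' | h''
    · rw [← Nat.lcm_assoc, Nat.lcm_comm]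
      exact mk _ _ _ ((hM oz).mpr h'') hx hy
    have one : ∃ g : M, orderOf g = 1 := ⟨1, orderOf_one⟩
    have join : ∀ a b t : ℕ, a ∣ t → b ∣ t → (t = c ∨ t = d) → ∃ g : R, orderOf g = Nat.lcm a b := by
      intro a b t ha hb ht
      refine (hR _).mpr (Or.inr ?_)
      rcases ht with rfl | rfl
      · exact Or.inl (Nat.lcm_dvd ha hb)
      · exact Or.inr (Nat.lcm_dvd ha hb)
    have pick : ∀ a b t : ℕ, (∃ g : R, orderOf g = Nat.lcm a b) → (∃ g : R, orderOf g = t) →
        Nat.lcm (Nat.lcm a b) t ∈ Set.range (orderOf : M × S × S → ℕ) := fun a b t h1 h2 => by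
      have := mk 1 _ _ one h1 h2
      rwa [Nat.lcm_one_left] at this
    have p1 := pick ox oy oz
    have p2 := pick ox oz oy
    have p3 := pick oy oz ox
    rw [show Nat.lcm (Nat.lcm ox oy) oz = Nat.lcm ox (Nat.lcm oy oz) from Nat.lcm_assoc _ _ _] at p1
    rw [show Nat.lcm (Nat.lcm ox oz) oy = Nat.lcm ox (Nat.lcm oy oz) by rw [Nat.lcm_assoc, Nat.lcm_comm oz oy]] at p2
    rw [show Nat.lcm (Nat.lcm oy oz) ox = Nat.lcm ox (Nat.lcm oy oz) from Nat.lcm_comm _ _] at p3
    rcases h with h | h <;> rcases h' with h' | h' <;> rcases h'' with h'' | h''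
    exacts [p1 (join _ _ c h h' (Or.inl rfl)) hz, p1 (join _ _ c h h' (Or.inl rfl)) hz,
      p2 (join _ _ c h h'' (Or.inl rfl)) hy, p3 (join _ _ d h' h'' (Or.inr rfl)) hx,
      p3 (join _ _ c h' h'' (Or.inl rfl)) hx, p2 (join _ _ d h h'' (Or.inr rfl)) hy,
      p1 (join _ _ d h h' (Or.inr rfl)) hz, p1 (join _ _ d h h' (Or.inr rfl)) hz]

variable {K : Type} [Field K] [Fintype K] [hp : Fact (Nat.Prime 3)] [CharP K 3]

/-- A square root of the identity in `SL₂` is scalar. -/
theorem sgn_of_sq {h : SpecialLinearGroup (Fin 2) K} (hh : h.1 * h.1 = 1) : h.1 = 1 ∨ h.1 = -1 := by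
  have h2 : (2 : K) ≠ 0 := Ring.two_ne_zero (by rw [ringChar.eq K 3]; norm_num)
  have key := sq_eq h
  rw [hh, eq_sub_iff_add_eq] at key
  have hτ : h.1.trace ≠ 0 := fun e => by
    rw [e, zero_smul] at key
    have := congrFun (congrFun key 0) 0
    simp at this
    exact h2 (by rw [← one_add_one_eq_two]; simpa using this)
  obtain ⟨c, hc⟩ : ∃ c : K, h.1 = c • (1 : Matrix (Fin 2) (Fin 2) K) :=
    ⟨h.1.trace⁻¹ * 2, by
      have e := congrArg (fun X : Matrix (Fin 2) (Fin 2) K => h.1.trace⁻¹ • X) key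
      simp only [inv_smul_smul₀ hτ] at e
      rw [mul_two, add_smul, ← smul_add, e]⟩
  have hd : h.1.det = 1 := h.2
  rw [hc, Matrix.det_smul, Matrix.det_one, mul_one, Fintype.card_fin, sq] at hd
  rcases mul_self_eq_one_iff.mp hd with rfl | rfl
  · exact Or.inl (by rw [hc, one_smul])
  · exact Or.inr (by rw [hc, neg_smul, one_smul])

/-- Minus the identity. -/
abbrev negMap : Matrix (Fin 2) (Fin 2) K ≃ₗ[K] Matrix (Fin 2) (Fin 2) K := LinearEquiv.neg K

theorem negMap_apply (X : Matrix (Fin 2) (Fin 2) K) : (negMap (K := K)) X = -X := rfl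

theorem negMap_comm (f : Matrix (Fin 2) (Fin 2) K ≃ₗ[K] Matrix (Fin 2) (Fin 2) K) : negMap * f = f * negMap :=
  LinearEquiv.ext fun X => (map_neg f X).symm

theorem negMap_mul_self : negMap (K := K) * negMap = 1 := LinearEquiv.ext fun X => neg_neg X

/-- The group `2 × PSL₂(q)`. -/
def grp : Subgroup (Matrix (Fin 2) (Fin 2) K ≃ₗ[K] Matrix (Fin 2) (Fin 2) K) where
  carrier := {φ | ∃ g, φ = act2 3 1 g ∨ φ = negMap * act2 3 1 g}
  one_mem' := ⟨1, Or.inl (map_one _).symm⟩
  mul_mem' := by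
    rintro _ _ ⟨g, rfl | rfl⟩ ⟨h, rfl | rfl⟩
    · exact ⟨g * h, Or.inl (map_mul _ _ _).symm⟩
    · exact ⟨g * h, Or.inr (by rw [map_mul, ← mul_assoc, ← negMap_comm, mul_assoc])⟩
    · exact ⟨g * h, Or.inr (by rw [map_mul, mul_assoc])⟩
    · exact ⟨g * h, Or.inl (by
        rw [map_mul, mul_assoc, ← mul_assoc (act2 3 1 g), ← negMap_comm, ← mul_assoc, ← mul_assoc,
          negMap_mul_self, one_mul])⟩
  inv_mem' := by
    rintro _ ⟨g, rfl | rfl⟩
    · exact ⟨g⁻¹, Or.inl (map_inv _ _).symm⟩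
    · exact ⟨g⁻¹, Or.inr (by
        rw [_root_.mul_inv_rev, inv_eq_of_mul_eq_one_right negMap_mul_self, ← map_inv, negMap_comm])⟩

theorem odd_three_pow (m : ℕ) : 3 ^ (2 * m + 1) % 8 = 3 := by
  induction m with
  | zero => norm_num
  | succ n ih => rw [show 2 * (n + 1) + 1 = 2 * n + 1 + 2 by ring, pow_add]; omega

theorem exists_factor (m : ℕ) (hm : 1 ≤ m) (hK : Fintype.card K = 3 ^ (2 * m + 1)) (N : ℕ) :
    ∃ (M : Type) (_ : Group M) (_ : Fintype M), N < Fintype.card M ∧ Set.range (orderOf : M → ℕ) =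
      {n | ∃ e ∈ [6, 9, 3 ^ (2 * m + 1) - 1, (3 ^ (2 * m + 1) + 1) / 2], n ∣ e} := by
  classical
  set q := 3 ^ (2 * m + 1) with hq
  have h8 : q % 8 = 3 := odd_three_pow m
  have hq3 : 3 ∣ q := dvd_pow_self 3 (by omega)
  have hq9 : 9 ≤ q := (Nat.pow_le_pow_right (show 0 < 3 by norm_num) (show 2 ≤ 2 * m + 1 by omega))
  let V := Matrix (Fin 2) (Fin 2) K
  haveI : Finite (V ≃ₗ[K] V) := Finite.of_injective (fun f => (f : V → V)) DFunLike.coe_injective
  let L := grp (K := K)
  let el : SpecialLinearGroup (Fin 2) K →* L := (act2 3 1).codRestrict L (fun g => ⟨g, Or.inl rfl⟩)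
  let z : L := ⟨negMap, 1, Or.inr (by rw [map_one, mul_one])⟩
  have hz2 : z * z = 1 := Subtype.ext negMap_mul_self
  have hzc : ∀ x : L, Commute z x := fun x => Subtype.ext (negMap_comm x.1)
  have hzv : ∀ (x : L) (v : V), (z * x) • v = -(x • v) := fun x v => rfl
  have hV : ∀ v : V, 3 • v = 0 := char_nsmul 3
  have hone : ∀ (g : SpecialLinearGroup (Fin 2) K) (n : ℕ), Sgn g.1 n → el g ^ n = 1 := fun g n h =>
    Subtype.ext (act2_eq_one_of_sgn 3 1 h)
  have hlow : ∀ g : SpecialLinearGroup (Fin 2) K, orderOf g ∣ 2 * orderOf (el g) := fun g => by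
    rw [← orderOf_injective L.subtype L.subtype_injective]
    exact orderOf_dvd_two_mul 3 1 g
  have hhalf : half 3 (q - 1) = (q - 1) / 2 ∧ half 3 (q + 1) = (q + 1) / 2 := by simp [half]
  refine exists_isospectral (L := L) (V := V) hV _ ?_ ?_ N
  · rintro ⟨x, g, hx⟩
    set φ : L := ⟨x, g, hx⟩
    have hφ : φ = el g ∨ φ = z * el g := hx.imp (fun h => Subtype.ext h) (fun h => Subtype.ext h)
    have hzpow : ∀ n, Even n → φ ^ n = el g ^ n := fun n hn => by
      rcases hφ with h | h <;> rw [h]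
      obtain ⟨r, rfl⟩ := hn
      rw [(hzc _).mul_pow, ← two_mul, pow_mul, sq, hz2, one_pow, one_mul]
    have semi : ∀ n e : ℕ, (n = q - 1 ∨ n = q + 1) → e ∈ [6, 9, q - 1, (q + 1) / 2] → orderOf g ∣ n →
        φ ^ e = 1 → ∃ e ∈ [6, 9, q - 1, (q + 1) / 2], Fine V φ e := by
      intro n e hn he hgn hpow
      by_cases hfix : ∃ v : V, v ≠ 0 ∧ φ • v = v
      · obtain ⟨v, hv, hgv⟩ := hfix
        refine ⟨3 * 2, by simp, fine_mul_char hV ?_⟩
        have hg2 : act2 3 1 (g ^ 2) v = v := by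
          have e : φ ^ 2 • v = v := by rw [sq, mul_smul, hgv, hgv]
          rw [hzpow 2 even_two, ← map_pow] at e
          exact e
        have hG : orderOf g ∣ 8 ∨ orderOf g ∣ 12 := by
          rcases sl2_cases 3 3 1 rfl le_rfl (g ^ 2) (trace_of_fixed 3 1 hv hg2) with h' | h' | ⟨ε', hε', h'⟩
          · rw [show half 3 (3 - 1) = 1 by simp [half]] at h'
            refine Or.inl (orderOf_dvd_of_pow_eq_one (Subtype.ext ?_))
            rw [show 8 = 2 * (1 * 4) by norm_num, pow_mul, pow_mul, sl_pow, sl_pow]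
            rcases h' with e | e <;> rw [e] <;> simp [Even.neg_one_pow (show Even 4 by decide)]
          · rw [show half 3 (3 + 1) = 2 by simp [half]] at h'
            refine Or.inl (orderOf_dvd_of_pow_eq_one (Subtype.ext ?_))
            rw [show 8 = 2 * (2 * 2) by norm_num, pow_mul, pow_mul, sl_pow, sl_pow]
            rcases h' with e | e <;> rw [e] <;> simp
          · refine Or.inr (orderOf_dvd_of_pow_eq_one (Subtype.ext ?_))
            rw [show 12 = 2 * (3 * 2) by norm_num, pow_mul, pow_mul, sl_pow, sl_pow, sq]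
            rcases unip_pow 3 hε' h' with e | e <;> rw [e] <;> simp
        have hord : orderOf g ∣ 4 := by
          obtain ⟨s, hs⟩ := hq3
          rcases hG with h' | h'
          · refine (Nat.dvd_gcd h' hgn).trans ?_
            have : Nat.gcd 8 n ∈ Nat.divisors 8 := Nat.mem_divisors.mpr ⟨Nat.gcd_dvd_left _ _, by norm_num⟩
            have h2 : Nat.gcd 8 n ∣ n := Nat.gcd_dvd_right _ _
            rw [show Nat.divisors 8 = {1, 2, 4, 8} by decide] at this
            simp only [Finset.mem_insert, Finset.mem_singleton] at this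
            rcases this with e | e | e | e <;> rw [e] at h2 ⊢ <;>
              first | decide | (exfalso; rcases hn with rfl | rfl <;> omega)
          · refine (Nat.dvd_gcd h' hgn).trans ?_
            have : Nat.gcd 12 n ∈ Nat.divisors 12 := Nat.mem_divisors.mpr ⟨Nat.gcd_dvd_left _ _, by norm_num⟩
            have h2 : Nat.gcd 12 n ∣ n := Nat.gcd_dvd_right _ _
            rw [show Nat.divisors 12 = {1, 2, 3, 4, 6, 12} by decide] at this
            simp only [Finset.mem_insert, Finset.mem_singleton] at this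
            rcases this with e | e | e | e | e | e <;> rw [e] at h2 ⊢ <;>
              first | decide | (exfalso; rcases hn with rfl | rfl <;> omega)
        have hg4 : (g ^ 2).1 * (g ^ 2).1 = 1 := by
          rw [← sl_mul, ← pow_add, orderOf_dvd_iff_pow_eq_one.mp hord]; rfl
        rw [hzpow 2 even_two]
        refine hone g 2 ?_
        show g.1 ^ 2 = 1 ∨ g.1 ^ 2 = -1
        rw [← sl_pow]
        exact sgn_of_sq hg4
      · push Not at hfix
        exact ⟨e, he, fine_of_fpf hpow fun v h => by by_contra h'; exact hfix v h' h⟩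
    rcases sl2_cases 3 q (2 * m + 1) hq (by omega) g (by rw [← hK, FiniteField.pow_card]) with h | h | ⟨ε, hε, h⟩
    rotate_right
    · have h3 := hone g 3 (unip_pow 3 hε h)
      rcases hφ with e | e <;> rw [e]
      · exact ⟨3 * 3, by simp, fine_mul_char hV h3⟩
      · refine ⟨6, by simp, ?_, fun v => ?_⟩
        · rw [(hzc _).mul_pow, show 6 = 2 * 3 by norm_num, pow_mul, sq, hz2, one_pow, one_mul, mul_comm, pow_mul,
            h3, one_pow]
        · have hflip : ∀ i, (z * el g) ^ (i + 3) • v = -((z * el g) ^ i • v) := fun i => by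
            rw [pow_add, ((Commute.refl (z * el g)).pow_pow i 3).eq, (hzc (el g)).mul_pow 3, h3, mul_one,
              show z ^ 3 = z by rw [pow_succ, sq, hz2, one_mul], hzv]
          rw [gsum]
          simp only [Finset.sum_range_succ, Finset.sum_range_zero, zero_add]
          rw [show (5 : ℕ) = 2 + 3 from rfl, show (4 : ℕ) = 1 + 3 from rfl, hflip 2, hflip 1,
            show (z * el g) ^ 3 • v = -((z * el g) ^ 0 • v) from hflip 0]
          abel
    · rw [hhalf.1] at h
      refine semi (q - 1) (q - 1) (Or.inl rfl) (by simp) (orderOf_dvd_of_pow_eq_one (Subtype.ext ?_)) ?_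
      · rw [show q - 1 = (q - 1) / 2 * 2 by omega, pow_mul, sl_pow, sl_pow, sq]
        rcases h with e | e <;> rw [e] <;> simp
      · rw [hzpow _ (Nat.even_iff.mpr (by omega)), show q - 1 = (q - 1) / 2 * 2 by omega, pow_mul, hone g _ h,
          one_pow]
    · rw [hhalf.2] at h
      refine semi (q + 1) ((q + 1) / 2) (Or.inr rfl) (by simp) (orderOf_dvd_of_pow_eq_one (Subtype.ext ?_)) ?_
      · rw [show q + 1 = (q + 1) / 2 * 2 by omega, pow_mul, sl_pow, sl_pow, sq]
        rcases h with e | e <;> rw [e] <;> simp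
      · rw [hzpow _ (Nat.even_iff.mpr (by omega)), hone g _ h]
  obtain ⟨l, hl⟩ := IsCyclic.exists_ofOrder_eq_natCard (α := Kˣ)
  rw [Nat.card_units, Nat.card_eq_fintype_card, hK] at hl
  intro e he
  simp only [List.mem_cons, List.not_mem_nil, or_false] at he
  rcases he with rfl | rfl | rfl | rfl
  · let w : SpecialLinearGroup (Fin 2) K := ⟨!![0, 1; -1, 0], by simp [Matrix.det_fin_two_of]⟩
    have hw2 : w.1 ^ 2 = -1 := by
      rw [sq]; show !![0, 1; -1, 0] * !![0, 1; -1, 0] = (-1 : Matrix (Fin 2) (Fin 2) K)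
      ext i j; fin_cases i <;> fin_cases j <;> simp [Matrix.mul_apply, Fin.sum_univ_two]
    have hne : (-1 : Matrix (Fin 2) (Fin 2) K) ≠ 1 := fun e => by
      have := congrFun (congrFun e 0) 0
      simp at this
      exact Ring.neg_one_ne_one_of_char_ne_two (by rw [ringChar.eq K 3]; norm_num) this
    have hd : orderOf (el w) ∣ 2 := orderOf_dvd_of_pow_eq_one (hone w 2 (Or.inr hw2))
    have ho : orderOf (el w) = 2 := by
      rcases (Nat.dvd_prime Nat.prime_two).mp hd with h | h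
      · exfalso
        have := hlow w
        rw [h, mul_one] at this
        have h' := orderOf_dvd_iff_pow_eq_one.mp this
        have : (w ^ 2).1 = (1 : Matrix (Fin 2) (Fin 2) K) := by rw [h']; rfl
        rw [sl_pow, hw2] at this
        exact hne this
      · exact h
    refine Or.inr ⟨el w, (1 : V), gsum_ne_of_fixed hV one_ne_zero ?_ (by rw [ho]; norm_num), by rw [ho]⟩
    show act2 3 1 w (1 : Matrix (Fin 2) (Fin 2) K) = 1
    rw [act2_apply]
    show !![0, 1; -1, 0] * (1 : Matrix (Fin 2) (Fin 2) K) * ((!![0, 1; -1, 0] : Matrix (Fin 2) (Fin 2) K).map (sg 3 1))ᵀ = 1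
    ext i j; fin_cases i <;> fin_cases j <;> simp [Matrix.mul_apply, Fin.sum_univ_two, Matrix.vecMul, dotProduct]
  · let u : SpecialLinearGroup (Fin 2) K := ⟨!![1, 1; 0, 1], by simp [Matrix.det_fin_two_of]⟩
    have hu3 : u ^ 3 = 1 := by
      refine Subtype.ext ?_
      rw [sl_pow, pow_three]
      show !![1, 1; 0, 1] * (!![1, 1; 0, 1] * !![1, 1; 0, 1]) = (1 : Matrix (Fin 2) (Fin 2) K)
      have h3 : (3 : K) = 0 := by exact_mod_cast CharP.cast_eq_zero K 3
      ext i j
      fin_cases i <;> fin_cases j <;> simp [Matrix.mul_apply, Fin.sum_univ_two, Matrix.vecMul, dotProduct] <;>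
        linear_combination h3
    have hu : orderOf u = 3 := orderOf_eq_prime hu3
      (fun h => by simpa [u] using congrArg (fun g : SpecialLinearGroup (Fin 2) K => g.1 0 1) h)
    have helu : orderOf (el u) = 3 := by
      have hd : orderOf (el u) ∣ 3 := orderOf_dvd_of_pow_eq_one (by rw [← map_pow, hu3, map_one])
      rcases (Nat.dvd_prime Nat.prime_three).mp hd with h | h
      · exfalso; have := hlow u; rw [h, hu] at this; norm_num at this
      · exact h
    refine Or.inr ⟨el u, (!![0, 0; 0, 1] : Matrix (Fin 2) (Fin 2) K), ?_, by rw [helu]⟩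
    rw [helu, gsum, Finset.sum_range_succ, Finset.sum_range_succ, Finset.sum_range_one]
    intro hz
    have hz' := congrArg (fun X : Matrix (Fin 2) (Fin 2) K => X 0 0) hz
    have hent : ∀ n : ℕ, (el u ^ n • (!![0, 0; 0, 1] : V) : Matrix (Fin 2) (Fin 2) K) 0 0 =
        (u ^ n).1 0 1 * (u ^ n).1 0 1 ^ 3 := fun n => by
      rw [← map_pow]
      show (act2 3 1 (u ^ n) (!![0, 0; 0, 1] : Matrix (Fin 2) (Fin 2) K)) 0 0 = _
      rw [act2_apply]
      simp [Matrix.mul_apply, Fin.sum_univ_two, iterateFrobenius_def, frobenius_def, Matrix.vecMul, dotProduct]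
    change (el u ^ 0 • (!![0, 0; 0, 1] : V) : Matrix (Fin 2) (Fin 2) K) 0 0 +
      (el u ^ 1 • (!![0, 0; 0, 1] : V) : Matrix (Fin 2) (Fin 2) K) 0 0 +
      (el u ^ 2 • (!![0, 0; 0, 1] : V) : Matrix (Fin 2) (Fin 2) K) 0 0 = (0 : K) at hz'
    rw [hent, hent, hent] at hz'
    have h2u : (u ^ 2).1 0 1 = 2 := by
      rw [sl_pow, sq]
      simp [u, Matrix.mul_apply, Fin.sum_univ_two, Matrix.vecMul, dotProduct, one_add_one_eq_two]
    rw [pow_zero, pow_one, h2u] at hz'
    simp [u] at hz'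
    have h17 : ((17 : ℕ) : K) = 0 := by push_cast; linear_combination hz'
    rw [CharP.cast_eq_zero_iff K 3] at h17
    norm_num at h17
  · have hodd : ¬ 2 ∣ (q - 1) / 2 := by omega
    have hd1 : orderOf (el (dg l)) ∣ (q - 1) / 2 := by
      refine orderOf_dvd_of_pow_eq_one (hone _ _ ?_)
      show (dg l).1 ^ ((q - 1) / 2) = 1 ∨ _
      have h4 : (dg l ^ ((q - 1) / 2)).1 * (dg l ^ ((q - 1) / 2)).1 = 1 := by
        rw [← sl_mul, ← pow_add, show (q - 1) / 2 + (q - 1) / 2 = q - 1 by omega, ← map_pow, ← hl,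
          pow_orderOf_eq_one, map_one]
        rfl
      rw [← sl_pow]
      exact sgn_of_sq h4
    have hd2 : (q - 1) / 2 ∣ orderOf (el (dg l)) := by
      refine (Nat.mul_dvd_mul_iff_left two_pos).mp ?_
      rw [show 2 * ((q - 1) / 2) = q - 1 by omega, ← hl, ← orderOf_injective _ dg_injective l]
      exact hlow _
    have hoz : orderOf z = 2 := orderOf_eq_prime (by rw [sq, hz2]) (fun h => by
      have := congrFun (congrFun (congrArg (fun x : L => (x.1 (1 : Matrix (Fin 2) (Fin 2) K))) h) 0) 0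
      simp [z, negMap_apply] at this
      exact Ring.neg_one_ne_one_of_char_ne_two (by rw [ringChar.eq K 3]; norm_num) this)
    refine Or.inl ⟨z * el (dg l), ?_⟩
    rw [(hzc _).orderOf_mul_eq_mul_orderOf_of_coprime (by
      rw [hoz, Nat.dvd_antisymm hd1 hd2]; exact (Nat.prime_two.coprime_iff_not_dvd).mpr hodd), hoz,
      Nat.dvd_antisymm hd1 hd2, show 2 * ((q - 1) / 2) = q - 1 by omega]
  · obtain ⟨g, hg⟩ := CfsgLib.NonSplitTorus.exists_orderOf_card_add_one (F := K) 3
    refine Or.inl ⟨el g, (Nat.mul_dvd_mul_iff_left two_pos).mp ?_⟩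
    rw [show 2 * ((q + 1) / 2) = q + 1 by omega, ← hK, ← hg]
    exact hlow g

end CfsgLib.SpecRee
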